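import Groth.Agent.GmH1Lib.LocalLift
import Groth.Agent.EtFound.PullExt
import Groth.Agent.EtFound.Excision
import Groth.Agent.EtMVLib.HpullApply

/-!
# Classes in `H¹(X, G_m)` die Zariski locally
-/

set_option autoImplicit false
set_option backward.isDefEq.respectTransparency.types false

universe u

open CategoryTheory CategoryTheory.Limits AlgebraicGeometry Opposite CategoryTheory.Abelian

namespace Groth.Agent.GmZar13

open Groth.Agent.EtMVLib Groth.Agent.EtFound

variable {X : Scheme.{u}}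

/-- A class of degree one coming from a section that lifts on an open dies there. -/
theorem Hpull_comp_extClass_eq_zero {S : ShortComplex (EtCoh.Ab X)} (hS : S.ShortExact)
    (V : X.Opens) [PreservesFiniteLimits (EtCoh.pull V.ι)] (ψ : EtCoh.const X ℤ ⟶ S.X₃)
    (s : S.X₂.obj.obj (op ((EtZar.zarToEt X).obj V)))
    (hs : (S.g.hom.app _).hom s = (S.X₃.obj.map (GmH1Lib.toTop V).op).hom (constVal ψ)) :
    EtCore.Hpull V.ι S.X₁ 1 ((Ext.mk₀ ψ).comp hS.extClass (zero_add 1)) = 0 := by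
  have e : 𝟙 _ ≫ ((EtZar.zarToEt X).obj V).hom = V.ι := Category.id_comp _
  let ψ' : EtCoh.const _ ℤ ⟶ (EtCoh.pull V.ι).obj S.X₂ :=
    ofVal (atPt V.ι ((EtZar.zarToEt X).obj V) (𝟙 _) e S.X₂ s)
  have key : ψ' ≫ (EtCoh.pull V.ι).map S.g =
      (EtCore.pullConst V.ι ℤ).inv ≫ (EtCoh.pull V.ι).map ψ := by
    apply (constVal_bijective _).1
    rw [constVal_comp, constVal_pullConst, constVal_ofVal, ← atPt_naturality_apply]
    refine (congrArg _ hs).trans ?_
    have e' : V.ι ≫ (EtCoh.top X).hom = V.ι := Category.comp_id _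
    rw [pullSec_eq_atPt V.ι e']
    exact ConcreteCategory.congr_hom
      (atPt_map V.ι (GmH1Lib.toTop V) (𝟙 _) e V.ι
        ((MorphismProperty.Over.w (GmH1Lib.toTop V)).symm.trans
          ((Category.comp_id _).trans (Category.id_comp _).symm)) e' S.X₃) (constVal ψ)
  rw [Hpull_apply, Ext.mapExactFunctor_comp, Ext.mapExactFunctor_mk₀,
    Ext.mapExactFunctor_extClass, Ext.mk₀_comp_mk₀_assoc, ← key, ← Ext.mk₀_comp_mk₀_assoc]
  refine (congrArg (fun t => (Ext.mk₀ ψ').comp t (zero_add 1))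
    (ShortComplex.ShortExact.comp_extClass (hS.map_of_exact (EtCoh.pull V.ι)))).trans ?_
  exact Ext.comp_zero (Ext.mk₀ ψ') _ _ _ _

/-- Every class in `H¹(X, G_m)` vanishes near every point. -/
theorem exists_open_Hpull_eq_zero (c : EtCoh.H X (EtCoh.Gm X) 1) (x : X) :
    ∃ U : X.Opens, x ∈ U ∧ ∀ [PreservesFiniteLimits (EtCoh.pull U.ι)],
      EtCore.Hpull U.ι (EtCoh.Gm X) 1 c = 0 := by
  let f := Injective.ι (EtCoh.Gm X)
  let S := ShortComplex.mk f (cokernel.π f) (cokernel.condition f)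
  have hS : S.ShortExact := ShortComplex.ShortExact.mk' (ShortComplex.exact_cokernel f)
    inferInstance inferInstance
  obtain ⟨y, hy⟩ := Ext.covariant_sequence_exact₁ _ hS c (Ext.eq_zero_of_injective _) (n₀ := 0) rfl
  obtain ⟨ψ, rfl⟩ := (Ext.mk₀_bijective _ _).2 y
  obtain ⟨V, hxV, s, hs⟩ := GmH1Lib.exists_local_lift f (cokernel.π f) (cokernel.condition f) hS (constVal ψ) x
  refine ⟨V, hxV, ?_⟩
  intro _
  rw [← hy]
  exact Hpull_comp_extClass_eq_zero hS V ψ s hs

end Groth.Agent.GmZar13
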